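import Groth.Prelude.Def_DerCA
import Mathlib.CategoryTheory.Triangulated.Yoneda

/-!
# Pro-systems of distinguished triangles
-/

set_option autoImplicit false
set_option maxHeartbeats 400000
set_option backward.isDefEq.respectTransparency false
set_option backward.isDefEq.respectTransparency.types false

universe v u

open CategoryTheory CategoryTheory.Limits Opposite Pretriangulated

noncomputable section

namespace Groth.Agent.ProTri8

variable {D : Type u} [Category.{v} D]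

theorem tr_tr (X : ARSys.PS D) {n m l : ℕ} (h : n ≤ m) (h' : m ≤ l) :
    ARSys.tr X h' ≫ ARSys.tr X h = ARSys.tr X (h.trans h') := by
  rw [← X.map_comp]
  rfl

theorem tr_refl (X : ARSys.PS D) {n : ℕ} (h : n ≤ n) : ARSys.tr X h = 𝟙 _ := by
  exact (congrArg X.map (Subsingleton.elim _ (𝟙 (op n)))).trans (X.map_id _)

theorem tr_nat {X Y : ARSys.PS D} (f : X ⟶ Y) {n m : ℕ} (h : n ≤ m) :
    ARSys.tr X h ≫ f.app (op n) = f.app (op m) ≫ ARSys.tr Y h :=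
  f.naturality _

theorem cone_tr {X : ARSys.PS D} {A : D} (c : (Functor.const ℕᵒᵖ).obj A ⟶ X) {n m : ℕ} (h : n ≤ m) :
    c.app (op m) ≫ ARSys.tr X h = c.app (op n) :=
  (c.naturality (homOfLE h).op).symm.trans (Category.id_comp _)

/-- Images of pro-isomorphisms under functors. -/
theorem isProIso_map {E : Type*} [Category E] (F : D ⥤ E) {X Y : ARSys.PS D} {f : X ⟶ Y} (hf : DerCA.IsProIso f) :
    DerCA.IsProIso (Functor.whiskerRight f F) := fun n => by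
  obtain ⟨m, h, b, h1, h2⟩ := hf n
  exact ⟨m, h, F.map b, (F.map_comp _ _).symm.trans (congrArg F.map h1),
    (F.map_comp _ _).symm.trans (congrArg F.map h2)⟩

theorem isProIso_of_arrowIso {X Y X' Y' : ARSys.PS D} {f : X ⟶ Y} {f' : X' ⟶ Y'} (e : X ≅ X') (e' : Y ≅ Y')
    (w : e.hom ≫ f' = f ≫ e'.hom) (hf : DerCA.IsProIso f) : DerCA.IsProIso f' := fun n => by
  obtain ⟨m, h, b, h1, h2⟩ := hf n
  refine ⟨m, h, e'.inv.app (op m) ≫ b ≫ e.hom.app (op n), ?_, ?_⟩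
  · have w' : f'.app (op m) ≫ e'.inv.app (op m) = e.inv.app (op m) ≫ f.app (op m) := by
      rw [← NatTrans.comp_app, ← NatTrans.comp_app, (Iso.eq_inv_comp e).2 (?_ : e.hom ≫ f' ≫ e'.inv = f)]
      rw [← Category.assoc, w, Category.assoc, e'.hom_inv_id, Category.comp_id]
    rw [reassoc_of% w', reassoc_of% h1, tr_nat e.hom h, ← Category.assoc, ← NatTrans.comp_app, e.inv_hom_id,
      NatTrans.id_app, Category.id_comp]
  · have w' : e.hom.app (op n) ≫ f'.app (op n) = f.app (op n) ≫ e'.hom.app (op n) := by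
      rw [← NatTrans.comp_app, w, NatTrans.comp_app]
    rw [Category.assoc, Category.assoc, w', reassoc_of% h2, tr_nat e'.hom h, ← Category.assoc, ← NatTrans.comp_app,
      e'.inv_hom_id, NatTrans.id_app, Category.id_comp]

/-- Images of essentially constant systems under functors. -/
theorem isEssConstant_map {E : Type*} [Category E] (F : D ⥤ E) {X : ARSys.PS D} {A : D}
    {c : (Functor.const ℕᵒᵖ).obj A ⟶ X} (h : DerCA.IsEssConstant X A c) :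
    ∃ c' : (Functor.const ℕᵒᵖ).obj (F.obj A) ⟶ X ⋙ F, DerCA.IsEssConstant (X ⋙ F) (F.obj A) c' := by
  obtain ⟨i, s, hs, hj⟩ := h
  refine ⟨{ app := fun n => F.map (c.app n), naturality := fun n m g => ?_ }, i, F.map s, ?_, fun j => ?_⟩
  · show 𝟙 _ ≫ F.map (c.app m) = F.map (c.app n) ≫ F.map (X.map g)
    rw [Category.id_comp, ← F.map_comp, ← c.naturality]
    exact congrArg F.map (Category.id_comp _).symm
  · exact (F.map_comp _ _).symm.trans ((congrArg F.map hs).trans (F.map_id _))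
  · obtain ⟨k, hi, hjk, e⟩ := hj j
    exact ⟨k, hi, hjk, (congrArg F.map e).trans (by rw [F.map_comp, F.map_comp]; rfl)⟩

theorem isEssConstant_of_iso {X Y : ARSys.PS D} (e : X ≅ Y) {A : D} {c : (Functor.const ℕᵒᵖ).obj A ⟶ X}
    (h : DerCA.IsEssConstant X A c) : DerCA.IsEssConstant Y A (c ≫ e.hom) := by
  obtain ⟨i, s, hs, hj⟩ := h
  refine ⟨i, e.inv.app (op i) ≫ s, ?_, fun j => ?_⟩
  · rw [NatTrans.comp_app, Category.assoc, ← Category.assoc (e.hom.app _), ← NatTrans.comp_app, e.hom_inv_id,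
      NatTrans.id_app, Category.id_comp]
    exact hs
  · obtain ⟨k, hi, hjk, h'⟩ := hj j
    refine ⟨k, hi, hjk, ?_⟩
    calc ARSys.tr Y hjk = e.inv.app (op k) ≫ (ARSys.tr X hjk ≫ e.hom.app (op j)) := by
          rw [tr_nat e.hom, ← Category.assoc, ← NatTrans.comp_app, e.inv_hom_id, NatTrans.id_app, Category.id_comp]
      _ = e.inv.app (op k) ≫ ARSys.tr X hi ≫ s ≫ c.app (op j) ≫ e.hom.app (op j) := by
          rw [h']; simp only [Category.assoc]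
      _ = _ := by
          rw [← Category.assoc, ← tr_nat e.inv]; simp only [Category.assoc]; rfl

section

variable [Preadditive D]

theorem eventually_zero {X Y : ARSys.PS D} {f : X ⟶ Y} (hf : DerCA.IsProIso f) {n : ℕ} {W : D}
    {y : Y.obj (op n) ⟶ W} (h : f.app (op n) ≫ y = 0) : ∃ (m : ℕ) (hm : n ≤ m), ARSys.tr Y hm ≫ y = 0 := by
  obtain ⟨m, hm, b, -, h2⟩ := hf n
  exact ⟨m, hm, by rw [← h2, Category.assoc, h, comp_zero]⟩

theorem eventually_lift {X Y : ARSys.PS D} {f : X ⟶ Y} (hf : DerCA.IsProIso f) {n : ℕ} {W : D}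
    (x : X.obj (op n) ⟶ W) :
    ∃ (m : ℕ) (hm : n ≤ m) (y : Y.obj (op m) ⟶ W), f.app (op m) ≫ y = ARSys.tr X hm ≫ x := by
  obtain ⟨m, hm, b, h1, -⟩ := hf n
  exact ⟨m, hm, b ≫ x, by rw [← Category.assoc, h1]⟩

theorem isProIso_of_eventually {X Y : ARSys.PS D} (f : X ⟶ Y)
    (h0 : ∀ (n : ℕ) (W : D) (y : Y.obj (op n) ⟶ W), f.app (op n) ≫ y = 0 → ∃ (m : ℕ) (hm : n ≤ m), ARSys.tr Y hm ≫ y = 0)
    (h1 : ∀ (n : ℕ) (W : D) (x : X.obj (op n) ⟶ W), ∃ (m : ℕ) (hm : n ≤ m) (y : Y.obj (op m) ⟶ W),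
      f.app (op m) ≫ y = ARSys.tr X hm ≫ x) :
    DerCA.IsProIso f := fun n => by
  obtain ⟨m, hm, y, hy⟩ := h1 n _ (𝟙 _)
  rw [Category.comp_id] at hy
  obtain ⟨l, hl, e⟩ := h0 m _ (y ≫ f.app (op n) - ARSys.tr Y hm) (by
    rw [Preadditive.comp_sub, ← Category.assoc, hy, tr_nat, sub_self])
  refine ⟨l, hm.trans hl, ARSys.tr Y hl ≫ y, ?_, ?_⟩
  · rw [← Category.assoc, ← tr_nat, Category.assoc, hy, tr_tr]
  · rw [Preadditive.comp_sub, sub_eq_zero] at e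
    rw [Category.assoc, e, tr_tr]

variable [HasZeroObject D] [HasShift D ℤ] [∀ n : ℤ, (shiftFunctor D n).Additive] [Pretriangulated D]

variable {X₁ X₂ X₃ : D} {α : X₁ ⟶ X₂} {β : X₂ ⟶ X₃} {γ : X₃ ⟶ X₁⟦(1 : ℤ)⟧}

theorem exact₂ (hT : Triangle.mk α β γ ∈ distinguishedTriangles) {W : D} (y : X₂ ⟶ W) (h : α ≫ y = 0) :
    ∃ z : X₃ ⟶ W, y = β ≫ z :=
  Triangle.yoneda_exact₂ _ hT y h

theorem exists_desc (hT : Triangle.mk α β γ ∈ distinguishedTriangles) {W : D} (y : X₃ ⟶ W) (h : β ≫ y = 0) :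
    ∃ w : X₁⟦(1 : ℤ)⟧ ⟶ W, y = γ ≫ w :=
  Triangle.yoneda_exact₃ _ hT y h

theorem exists_extension (hT : Triangle.mk α β γ ∈ distinguishedTriangles) {W : D} (y : X₁ ⟶ W)
    (h : γ ≫ y⟦(1 : ℤ)⟧' = 0) : ∃ z : X₂ ⟶ W, α ≫ z = y := by
  obtain ⟨z, hz⟩ : ∃ z : X₂⟦(1 : ℤ)⟧ ⟶ W⟦(1 : ℤ)⟧, y⟦(1 : ℤ)⟧' = (-α⟦(1 : ℤ)⟧') ≫ z :=
    Triangle.yoneda_exact₂ _ (rot_of_distTriang _ (rot_of_distTriang _ hT)) (y⟦(1 : ℤ)⟧') h
  obtain ⟨z', hz'⟩ := (shiftFunctor D (1 : ℤ)).map_surjective (-z)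
  refine ⟨z', (shiftFunctor D (1 : ℤ)).map_injective ?_⟩
  rw [Functor.map_comp, hz', hz, Preadditive.neg_comp, Preadditive.comp_neg]

end

section

variable [Preadditive D] [HasZeroObject D] [HasShift D ℤ] [∀ n : ℤ, (shiftFunctor D n).Additive] [Pretriangulated D]

/-- The five lemma for pro-isomorphisms. -/
theorem isProIso_mid {X₁ X₂ X₃ Y₁ Y₂ Y₃ : ARSys.PS D} (a : X₁ ⟶ X₂) (b : X₂ ⟶ X₃)
    (δ : X₃ ⟶ X₁ ⋙ shiftFunctor D (1 : ℤ)) (a' : Y₁ ⟶ Y₂) (b' : Y₂ ⟶ Y₃)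
    (δ' : Y₃ ⟶ Y₁ ⋙ shiftFunctor D (1 : ℤ))
    (hX : ∀ n, Triangle.mk (a.app (op n)) (b.app (op n)) (δ.app (op n)) ∈ distinguishedTriangles)
    (hY : ∀ n, Triangle.mk (a'.app (op n)) (b'.app (op n)) (δ'.app (op n)) ∈ distinguishedTriangles)
    (f₁ : X₁ ⟶ Y₁) (f₂ : X₂ ⟶ Y₂) (f₃ : X₃ ⟶ Y₃) (ha : a ≫ f₂ = f₁ ≫ a') (hb : b ≫ f₃ = f₂ ≫ b')
    (hδ : δ ≫ Functor.whiskerRight f₁ _ = f₃ ≫ δ') (h₁ : DerCA.IsProIso f₁) (h₃ : DerCA.IsProIso f₃) :
    DerCA.IsProIso f₂ := by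
  have ha' : ∀ n, a.app (op n) ≫ f₂.app (op n) = f₁.app (op n) ≫ a'.app (op n) := fun n => by
    rw [← NatTrans.comp_app, ha]; rfl
  have hb' : ∀ n, b.app (op n) ≫ f₃.app (op n) = f₂.app (op n) ≫ b'.app (op n) := fun n => by
    rw [← NatTrans.comp_app, hb]; rfl
  have hδ' : ∀ n, δ.app (op n) ≫ (f₁.app (op n))⟦(1 : ℤ)⟧' = f₃.app (op n) ≫ δ'.app (op n) := fun n =>
    congrArg (fun k => k.app (op n)) hδ
  have h₁' := isProIso_map (shiftFunctor D (1 : ℤ)) h₁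
  refine isProIso_of_eventually f₂ (fun n W y hy => ?_) (fun n W x => ?_)
  · obtain ⟨m, hm, e⟩ := eventually_zero h₁ (y := a'.app (op n) ≫ y) (by
      rw [← Category.assoc, ← ha', Category.assoc, hy, comp_zero])
    obtain ⟨z, hz⟩ := exact₂ (hY m) (ARSys.tr Y₂ hm ≫ y) (by
      show a'.app (op m) ≫ ARSys.tr Y₂ hm ≫ y = 0
      rw [← Category.assoc, ← tr_nat, Category.assoc, e])
    obtain ⟨w, hw⟩ := exists_desc (hX m) (f₃.app (op m) ≫ z) (by
      show b.app (op m) ≫ f₃.app (op m) ≫ z = 0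
      rw [← Category.assoc, hb', Category.assoc, show b'.app (op m) ≫ z = ARSys.tr Y₂ hm ≫ y from hz.symm,
        ← Category.assoc, ← tr_nat, Category.assoc, hy, comp_zero])
    obtain ⟨l, hl, w₂, hw₂⟩ := eventually_lift h₁' (n := m) w
    obtain ⟨p, hp, e'⟩ := eventually_zero h₃ (n := l) (y := ARSys.tr Y₃ hl ≫ z - δ'.app (op l) ≫ w₂) (by
      rw [Preadditive.comp_sub, ← Category.assoc, ← tr_nat, Category.assoc,
        show f₃.app (op m) ≫ z = δ.app (op m) ≫ w from hw, ← Category.assoc (f₃.app (op l)), ← hδ',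
        Category.assoc, show (f₁.app (op l))⟦(1 : ℤ)⟧' ≫ w₂ = _ from hw₂, ← Category.assoc, tr_nat δ hl,
        Category.assoc, sub_self])
    refine ⟨p, (hm.trans hl).trans hp, ?_⟩
    rw [Preadditive.comp_sub, sub_eq_zero] at e'
    have h1 : ARSys.tr Y₂ ((hm.trans hl).trans hp) ≫ y = b'.app (op p) ≫ ARSys.tr Y₃ (hl.trans hp) ≫ z := by
      rw [← tr_tr Y₂ hm (hl.trans hp), Category.assoc, show ARSys.tr Y₂ hm ≫ y = b'.app (op m) ≫ z from hz,
        ← Category.assoc, tr_nat b', Category.assoc]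
    have h2 : b'.app (op p) ≫ δ'.app (op p) = 0 := comp_distTriang_mor_zero₂₃ _ (hY p)
    rw [h1, ← tr_tr Y₃ hl hp, Category.assoc, e', ← Category.assoc (ARSys.tr Y₃ hp), tr_nat δ' hp, Category.assoc,
      ← Category.assoc, h2, zero_comp]
  · obtain ⟨m, hm, y₁, hy₁⟩ := eventually_lift h₁ (n := n) (a.app (op n) ≫ x)
    obtain ⟨l, hl, e⟩ := eventually_zero h₃ (n := m) (y := δ'.app (op m) ≫ y₁⟦(1 : ℤ)⟧') (by
      rw [← Category.assoc, ← hδ', Category.assoc, ← Functor.map_comp, hy₁, ← Category.assoc (ARSys.tr X₁ hm),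
        tr_nat a hm, Category.assoc, Functor.map_comp, ← Category.assoc,
        show δ.app (op m) ≫ (a.app (op m))⟦(1 : ℤ)⟧' = 0 from comp_distTriang_mor_zero₃₁ _ (hX m), zero_comp])
    obtain ⟨y₀, hy₀⟩ := exists_extension (hY l) (ARSys.tr Y₁ hl ≫ y₁) (by
      show δ'.app (op l) ≫ _ = 0
      rw [Functor.map_comp, ← Category.assoc,
        show δ'.app (op l) ≫ (ARSys.tr Y₁ hl)⟦(1 : ℤ)⟧' = ARSys.tr Y₃ hl ≫ δ'.app (op m) from (tr_nat δ' hl).symm,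
        Category.assoc, e])
    obtain ⟨x₃, hx₃⟩ := exact₂ (hX l) (ARSys.tr X₂ (hm.trans hl) ≫ x - f₂.app (op l) ≫ y₀) (by
      show a.app (op l) ≫ _ = 0
      rw [Preadditive.comp_sub, ← Category.assoc, ← tr_nat, ← Category.assoc (a.app (op l)), ha', Category.assoc,
        Category.assoc, show a'.app (op l) ≫ y₀ = ARSys.tr Y₁ hl ≫ y₁ from hy₀, ← Category.assoc (f₁.app (op l)),
        ← tr_nat, Category.assoc, hy₁, ← Category.assoc (ARSys.tr X₁ hl), tr_tr, sub_self])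
    obtain ⟨p, hp, y₃, hy₃⟩ := eventually_lift h₃ (n := l) x₃
    refine ⟨p, (hm.trans hl).trans hp, ARSys.tr Y₂ hp ≫ y₀ + b'.app (op p) ≫ y₃, ?_⟩
    rw [Preadditive.comp_add, ← Category.assoc, ← tr_nat, Category.assoc, ← Category.assoc (f₂.app (op p)), ← hb',
      Category.assoc, hy₃, ← Category.assoc (b.app (op p)), ← tr_nat, Category.assoc,
      show b.app (op l) ≫ x₃ = _ from hx₃.symm, Preadditive.comp_sub, reassoc_of% (tr_tr X₂ (hm.trans hl) hp)]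
    abel

/-- The middle of a system of triangles with essentially constant outer systems. -/
theorem exists_isEssConstant_mid {X Y Z : ARSys.PS D} (f : X ⟶ Y) (g : Y ⟶ Z) (h : Z ⟶ X ⋙ shiftFunctor D (1 : ℤ))
    (hT : ∀ n, Triangle.mk (f.app (op n)) (g.app (op n)) (h.app (op n)) ∈ distinguishedTriangles)
    {A C : D} {cA : (Functor.const ℕᵒᵖ).obj A ⟶ X} (hA : DerCA.IsEssConstant X A cA)
    {cC : (Functor.const ℕᵒᵖ).obj C ⟶ Z} (hC : DerCA.IsEssConstant Z C cC) :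
    ∃ (B : D) (cB : (Functor.const ℕᵒᵖ).obj B ⟶ Y), DerCA.IsEssConstant Y B cB := by
  obtain ⟨i₁, s₁, hs₁, hj₁⟩ := hA
  obtain ⟨i₂, s₂, hs₂, hj₂⟩ := hC
  have hrA : ∀ (n : ℕ) (hn : i₁ ≤ n), cA.app (op n) ≫ ARSys.tr X hn ≫ s₁ = 𝟙 A := fun n hn => by
    rw [← Category.assoc, cone_tr, hs₁]
  have hrC : ∀ (n : ℕ) (hn : i₂ ≤ n), cC.app (op n) ≫ ARSys.tr Z hn ≫ s₂ = 𝟙 C := fun n hn => by
    rw [← Category.assoc, cone_tr, hs₂]
  let δ : C ⟶ A⟦(1 : ℤ)⟧ := cC.app (op i₁) ≫ h.app (op i₁) ≫ s₁⟦(1 : ℤ)⟧'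
  obtain ⟨B, a, b, hB⟩ := distinguished_cocone_triangle₂ δ
  have hδ : ∀ n, cC.app (op n) ≫ h.app (op n) = δ ≫ (cA.app (op n))⟦(1 : ℤ)⟧' := fun n => by
    obtain ⟨k, hi, hn, e⟩ := hj₁ n
    rw [← cone_tr cC hn, Category.assoc, tr_nat h hn]
    show cC.app (op k) ≫ h.app (op k) ≫ (ARSys.tr X hn)⟦(1 : ℤ)⟧' = _
    rw [e, Functor.map_comp, Functor.map_comp, show h.app (op k) ≫ (ARSys.tr X hi)⟦(1 : ℤ)⟧' ≫ _ =
      ARSys.tr Z hi ≫ h.app (op i₁) ≫ s₁⟦(1 : ℤ)⟧' ≫ (cA.app (op n))⟦(1 : ℤ)⟧' by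
        rw [← Category.assoc, ← Category.assoc (ARSys.tr Z hi), tr_nat h hi]; rfl]
    rw [← Category.assoc, cone_tr]
    simp [δ]
  -- a morphism from one level
  obtain ⟨k₀, hk₂, hk₁, ek⟩ := hj₂ i₁
  obtain ⟨(θ : Y.obj (op k₀) ⟶ B), hθ₁, hθ₂⟩ := complete_distinguished_triangle_morphism₂ _ _ (hT k₀) hB
    (ARSys.tr X hk₁ ≫ s₁) (ARSys.tr Z hk₂ ≫ s₂) (by
      show h.app (op k₀) ≫ _ = (ARSys.tr Z hk₂ ≫ s₂) ≫ δ
      rw [Functor.map_comp, ← Category.assoc,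
        show h.app (op k₀) ≫ (ARSys.tr X hk₁)⟦(1 : ℤ)⟧' = ARSys.tr Z hk₁ ≫ h.app (op i₁) from (tr_nat h hk₁).symm, ek]
      simp [δ])
  replace hθ₁ : f.app (op k₀) ≫ θ = ARSys.tr X hk₁ ≫ s₁ ≫ a :=
    (show f.app (op k₀) ≫ θ = (ARSys.tr X hk₁ ≫ s₁) ≫ a from hθ₁).trans (Category.assoc _ _ _)
  replace hθ₂ : θ ≫ b = g.app (op k₀) ≫ ARSys.tr Z hk₂ ≫ s₂ :=
    (show g.app (op k₀) ≫ _ = θ ≫ b from hθ₂).symm
  have inj : ∀ (m : ℕ) (hm : k₀ ≤ m) (W : D) (u : B ⟶ W), ARSys.tr Y hm ≫ θ ≫ u = 0 → u = 0 := by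
    intro m hm W u hu
    have hau : a ≫ u = 0 := by
      have e1 : ARSys.tr X (hk₁.trans hm) ≫ s₁ ≫ a ≫ u = 0 := by
        rw [← tr_tr X hk₁ hm, Category.assoc, ← Category.assoc (s₁), ← Category.assoc (ARSys.tr X hk₁), ← hθ₁,
          Category.assoc, ← Category.assoc (ARSys.tr X hm), tr_nat f hm, Category.assoc, hu, comp_zero]
      have e2 := congrArg (cA.app (op m) ≫ ·) e1
      rw [← Category.assoc (ARSys.tr X (hk₁.trans hm)), ← Category.assoc, hrA, comp_zero] at e2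
      erw [Category.id_comp] at e2
      exact e2
    obtain ⟨v, rfl⟩ := exact₂ hB u hau
    change ARSys.tr Y hm ≫ θ ≫ b ≫ v = 0 at hu
    rw [← Category.assoc θ, hθ₂, Category.assoc, ← Category.assoc (ARSys.tr Y hm), tr_nat g hm, Category.assoc,
      ← Category.assoc (ARSys.tr Z hm), ← Category.assoc (ARSys.tr Z hm), tr_tr] at hu
    obtain ⟨w, hw⟩ := exists_desc (hT m) ((ARSys.tr Z (hk₂.trans hm) ≫ s₂) ≫ v) hu
    change (ARSys.tr Z (hk₂.trans hm) ≫ s₂) ≫ v = h.app (op m) ≫ w at hw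
    have e3 := congrArg (cC.app (op m) ≫ ·) hw
    rw [← Category.assoc, hrC, ← Category.assoc, hδ, Category.assoc] at e3
    erw [Category.id_comp] at e3
    show b ≫ v = 0
    rw [e3, ← Category.assoc, show b ≫ δ = 0 from comp_distTriang_mor_zero₂₃ _ hB, zero_comp]
  have surj : ∀ n : ℕ, ∃ (m : ℕ) (hk : k₀ ≤ m) (hn : n ≤ m) (u : B ⟶ Y.obj (op n)),
      ARSys.tr Y hk ≫ θ ≫ u = ARSys.tr Y hn := fun n => by
    obtain ⟨u₀, hu₀⟩ := exists_extension hB (cA.app (op n) ≫ f.app (op n)) (by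
      show δ ≫ _ = 0
      rw [Functor.map_comp, ← Category.assoc, ← hδ, Category.assoc,
        show h.app (op n) ≫ (f.app (op n))⟦(1 : ℤ)⟧' = 0 from comp_distTriang_mor_zero₃₁ _ (hT n), comp_zero])
    obtain ⟨l, hl₁, hln, el⟩ := hj₁ n
    let l' := max l k₀
    have hl' : k₀ ≤ l' := le_max_right _ _
    have hn' : n ≤ l' := hln.trans (le_max_left _ _)
    have el' : ARSys.tr X hn' = ARSys.tr X (hk₁.trans hl') ≫ s₁ ≫ cA.app (op n) := by
      rw [← tr_tr X hln (le_max_left l k₀), el, ← Category.assoc, tr_tr]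
    obtain ⟨z, hz⟩ := exact₂ (hT l') (ARSys.tr Y hn' - ARSys.tr Y hl' ≫ θ ≫ u₀) (by
      show f.app (op l') ≫ _ = 0
      rw [Preadditive.comp_sub, ← tr_nat, el', ← Category.assoc (f.app (op l')), ← tr_nat]
      simp only [Category.assoc]
      rw [← Category.assoc (f.app (op k₀)), hθ₁]
      simp only [Category.assoc]
      rw [show a ≫ u₀ = _ from hu₀, ← Category.assoc (ARSys.tr X hl'), tr_tr, sub_self])
    obtain ⟨p, hp₂, hpl, ep⟩ := hj₂ l'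
    refine ⟨p, hl'.trans hpl, hn'.trans hpl, u₀ + b ≫ cC.app (op l') ≫ z, ?_⟩
    have h2 : ARSys.tr Y hpl ≫ g.app (op l') ≫ z = ARSys.tr Y (hl'.trans hpl) ≫ θ ≫ b ≫ cC.app (op l') ≫ z := by
      rw [← Category.assoc θ, hθ₂]
      simp only [Category.assoc]
      rw [← Category.assoc (ARSys.tr Y (hl'.trans hpl)), tr_nat g (hl'.trans hpl), Category.assoc,
        ← Category.assoc (ARSys.tr Y hpl), tr_nat g hpl, Category.assoc, ep]
      simp only [Category.assoc]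
      rw [← Category.assoc (ARSys.tr Z (hl'.trans hpl)), tr_tr]
    rw [Preadditive.comp_add, Preadditive.comp_add, ← h2, show g.app (op l') ≫ z = _ from hz.symm,
      Preadditive.comp_sub, tr_tr, ← Category.assoc (ARSys.tr Y hpl), tr_tr]
    abel
  choose m hk hn u hu using surj
  have uniq : ∀ (n p : ℕ) (hkp : k₀ ≤ p) (hnp : n ≤ p) (v : B ⟶ Y.obj (op n)),
      ARSys.tr Y hkp ≫ θ ≫ v = ARSys.tr Y hnp → v = u n := fun n p hkp hnp v hv => by
    refine sub_eq_zero.1 (inj (max p (m n)) (hkp.trans (le_max_left _ _)) _ _ ?_)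
    rw [Preadditive.comp_sub, Preadditive.comp_sub, sub_eq_zero]
    trans ARSys.tr Y (hnp.trans (le_max_left p (m n)))
    · rw [← tr_tr Y hkp (le_max_left p (m n)), Category.assoc, hv, tr_tr]
    · rw [← tr_tr Y (hk n) (le_max_right p (m n)), Category.assoc, hu, tr_tr]
  have hcompat : ∀ {n n' : ℕ} (h' : n ≤ n'), u n' ≫ ARSys.tr Y h' = u n := fun {n n'} h' => by
    refine uniq n (m n') (hk n') (h'.trans (hn n')) _ ?_
    rw [← tr_tr Y h' (hn n'), ← hu n']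
    simp only [Category.assoc]
  refine ⟨B, { app := fun n => u n.unop, naturality := fun n n' q => ?_ }, k₀, θ, ?_, fun j => ?_⟩
  · show 𝟙 B ≫ u n'.unop = u n.unop ≫ Y.map q
    rw [Category.id_comp, show q = (homOfLE (leOfHom q.unop)).op from Subsingleton.elim _ _]
    exact (hcompat _).symm
  · show u k₀ ≫ θ = 𝟙 B
    refine sub_eq_zero.1 (inj (m k₀) (hk k₀) _ _ ?_)
    rw [Preadditive.comp_sub, Preadditive.comp_sub, sub_eq_zero, Category.comp_id, ← Category.assoc θ,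
      ← Category.assoc, hu, show hn k₀ = hk k₀ from Subsingleton.elim _ _]
  · exact ⟨m j, hk j, hn j, (hu j).symm⟩

end

end Groth.Agent.ProTri8
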