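import Groth.Agent.Lib.ProTri8.Basic
import Groth.Agent.Lib.DerTrunc.Basic

/-!
# Bounded pro-systems in the derived category are controlled by cohomology
-/

set_option autoImplicit false
set_option maxHeartbeats 400000
set_option backward.isDefEq.respectTransparency false
set_option backward.isDefEq.respectTransparency.types false

universe w v u

open CategoryTheory CategoryTheory.Limits Opposite Pretriangulated

noncomputable section

namespace Groth.Agent.ProTri8

open DerivedCategory.TStructure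

variable {A : Type u} [Category.{v} A] [Abelian A] [HasDerivedCategory.{w} A]

local notation "HH" => DerivedCategory.homologyFunctor A

theorem exists_map_eq (q : ℤ) {P R : DerivedCategory A} [P.IsGE q] [P.IsLE q] [R.IsGE q] [R.IsLE q]
    (g : (HH q).obj P ⟶ (HH q).obj R) : ∃ f : P ⟶ R, (HH q).map f = g := by
  obtain ⟨Y, ⟨eP⟩⟩ := DerivedCategory.exists_iso_singleFunctor_obj_of_isGE_of_isLE P q
  obtain ⟨Y', ⟨eR⟩⟩ := DerivedCategory.exists_iso_singleFunctor_obj_of_isGE_of_isLE R q
  let ι := DerivedCategory.singleFunctorCompHomologyFunctorIso A q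
  let m : Y ⟶ Y' := ι.inv.app Y ≫ ((HH q).mapIso eP).inv ≫ g ≫ ((HH q).mapIso eR).hom ≫ ι.hom.app Y'
  refine ⟨eP.hom ≫ (DerivedCategory.singleFunctor A q).map m ≫ eR.inv, ?_⟩
  have h : (HH q).map ((DerivedCategory.singleFunctor A q).map m) = ι.hom.app Y ≫ m ≫ ι.inv.app Y' := by
    have h' : (HH q).map ((DerivedCategory.singleFunctor A q).map m) ≫ ι.hom.app Y' = ι.hom.app Y ≫ m :=
      ι.hom.naturality m
    rw [← Category.assoc, ← h', Category.assoc, Iso.hom_inv_id_app]
    exact (Category.comp_id _).symm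
  rw [Functor.map_comp, Functor.map_comp, h]
  simp [m, ← Functor.map_comp, ← Functor.map_comp_assoc]

theorem eq_of_map_eq (q : ℤ) {P R : DerivedCategory A} [P.IsGE q] [P.IsLE q] [R.IsGE q] [R.IsLE q] {f g : P ⟶ R}
    (h : (HH q).map f = (HH q).map g) : f = g :=
  sub_eq_zero.1 (DerTrunc.hom_eq_zero_of_concentrated q (f - g) (by rw [Functor.map_sub, h, sub_self]))

theorem isProIso_concentrated (q : ℤ) {X Y : ARSys.PS (DerivedCategory A)} (f : X ⟶ Y)
    [∀ n, (X.obj (op n)).IsGE q] [∀ n, (X.obj (op n)).IsLE q] [∀ n, (Y.obj (op n)).IsGE q] [∀ n, (Y.obj (op n)).IsLE q]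
    (h : DerCA.IsProIso (Functor.whiskerRight f (HH q))) : DerCA.IsProIso f := fun n => by
  obtain ⟨m, hm, b₀, h1, h2⟩ := h n
  obtain ⟨b, rfl⟩ := exists_map_eq q b₀
  exact ⟨m, hm, b, eq_of_map_eq q (((HH q).map_comp _ _).trans h1), eq_of_map_eq q (((HH q).map_comp _ _).trans h2)⟩

theorem exists_isEssConstant_concentrated (q : ℤ) {X : ARSys.PS (DerivedCategory A)}
    [∀ n, (X.obj (op n)).IsGE q] [∀ n, (X.obj (op n)).IsLE q] {B : A}
    {c : (Functor.const ℕᵒᵖ).obj B ⟶ X ⋙ HH q} (h : DerCA.IsEssConstant (X ⋙ HH q) B c) :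
    ∃ (L : DerivedCategory A) (c' : (Functor.const ℕᵒᵖ).obj L ⟶ X), DerCA.IsEssConstant X L c' := by
  obtain ⟨i, s, hs, hj⟩ := h
  let L := (DerivedCategory.singleFunctor A q).obj B
  haveI : ∀ k : ℕᵒᵖ, (X.obj k).IsGE q := fun k => inferInstanceAs ((X.obj (op k.unop)).IsGE q)
  haveI : ∀ k : ℕᵒᵖ, (X.obj k).IsLE q := fun k => inferInstanceAs ((X.obj (op k.unop)).IsLE q)
  let e : (HH q).obj L ≅ B := (DerivedCategory.singleFunctorCompHomologyFunctorIso A q).app B
  choose c' hc' using fun k : ℕᵒᵖ => exists_map_eq q (P := L) (R := X.obj k) (e.hom ≫ c.app k)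
  obtain ⟨s', hs'⟩ := exists_map_eq q (P := X.obj (op i)) (R := L) (s ≫ e.inv)
  refine ⟨L, { app := c', naturality := fun k l g => ?_ }, i, s', ?_, fun j => ?_⟩
  · show 𝟙 L ≫ c' l = c' k ≫ X.map g
    refine eq_of_map_eq q ?_
    rw [Category.id_comp, Functor.map_comp, hc', hc', Category.assoc]
    exact congrArg (e.hom ≫ ·) ((Category.id_comp _).symm.trans (c.naturality g))
  · show c' (op i) ≫ s' = 𝟙 L
    refine eq_of_map_eq q ?_
    rw [Functor.map_comp, hc', hs', CategoryTheory.Functor.map_id, Category.assoc, ← Category.assoc (c.app _), hs]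
    erw [Category.id_comp]
    exact e.hom_inv_id
  · obtain ⟨k, hi, hk, he⟩ := hj j
    refine ⟨k, hi, hk, eq_of_map_eq q ?_⟩
    show _ = (HH q).map (ARSys.tr X hi ≫ s' ≫ c' (op j))
    rw [Functor.map_comp, Functor.map_comp, hs', hc', Category.assoc, e.inv_hom_id_assoc]
    exact he

/-- The triangle of a system. -/
theorem trunc_triangle (X : ARSys.PS (DerivedCategory A)) (n : ℤ) (k : ℕ) :
    Triangle.mk ((Functor.whiskerLeft X (t.truncLTι n)).app (op k)) ((Functor.whiskerLeft X (t.truncGEπ n)).app (op k))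
      ((Functor.whiskerLeft X (t.truncGEδLT n)).app (op k)) ∈ distinguishedTriangles :=
  t.triangleLTGE_distinguished n (X.obj (op k))

theorem isLE_truncLT (X : DerivedCategory A) (a : ℤ) : ((t.truncLT (a + 1)).obj X).IsLE a := by
  have h : t.IsLE ((t.truncLT (a + 1)).obj X) (a + 1 - 1) := inferInstance
  rwa [add_sub_cancel_right] at h

theorem isGE_truncLT (X : DerivedCategory A) (a : ℤ) [X.IsGE a] (n : ℤ) (hn : a < n) : ((t.truncLT n).obj X).IsGE a := by
  rw [DerivedCategory.isGE_iff]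
  intro i hi
  haveI := DerTrunc.isIso_homology_truncLTι X n i (hi.trans hn)
  exact (DerivedCategory.isZero_of_isGE X a i hi).of_iso (asIso ((HH i).map ((t.truncLTι n).app X)))

theorem isLE_truncGE (X : DerivedCategory A) (b : ℤ) [X.IsLE b] (n : ℤ) (hn : n ≤ b) : ((t.truncGE n).obj X).IsLE b := by
  rw [DerivedCategory.isLE_iff]
  intro i hi
  haveI := DerTrunc.isIso_homology_truncGEπ X n i (hn.trans hi.le)
  exact (DerivedCategory.isZero_of_isLE X b i hi).of_iso (asIso ((HH i).map ((t.truncGEπ n).app X))).symm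

/-- Truncated systems and their cohomology. -/
noncomputable def ltIso (X : ARSys.PS (DerivedCategory A)) (n i : ℤ) (hi : i < n) :
    (X ⋙ t.truncLT n) ⋙ HH i ≅ X ⋙ HH i :=
  haveI : ∀ k, IsIso ((Functor.whiskerRight (Functor.whiskerLeft X (t.truncLTι n)) (HH i)).app k) :=
    fun k => DerTrunc.isIso_homology_truncLTι (X.obj k) n i hi
  NatIso.ofComponents (fun k => asIso ((Functor.whiskerRight (Functor.whiskerLeft X (t.truncLTι n)) (HH i)).app k))
    fun g => (Functor.whiskerRight (Functor.whiskerLeft X (t.truncLTι n)) (HH i)).naturality g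

/-- Truncated systems and their cohomology. -/
noncomputable def geIso (X : ARSys.PS (DerivedCategory A)) (n i : ℤ) (hi : n ≤ i) :
    X ⋙ HH i ≅ (X ⋙ t.truncGE n) ⋙ HH i :=
  haveI : ∀ k, IsIso ((Functor.whiskerRight (Functor.whiskerLeft X (t.truncGEπ n)) (HH i)).app k) :=
    fun k => DerTrunc.isIso_homology_truncGEπ (X.obj k) n i hi
  NatIso.ofComponents (fun k => asIso ((Functor.whiskerRight (Functor.whiskerLeft X (t.truncGEπ n)) (HH i)).app k))
    fun g => (Functor.whiskerRight (Functor.whiskerLeft X (t.truncGEπ n)) (HH i)).naturality g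

theorem isProIso_of_homology : ∀ (k : ℕ) (a : ℤ) {X Y : ARSys.PS (DerivedCategory A)} (f : X ⟶ Y),
    (∀ n, (X.obj (op n)).IsGE a) → (∀ n, (X.obj (op n)).IsLE (a + k)) → (∀ n, (Y.obj (op n)).IsGE a) →
    (∀ n, (Y.obj (op n)).IsLE (a + k)) → (∀ i, DerCA.IsProIso (Functor.whiskerRight f (HH i))) → DerCA.IsProIso f := by
  intro k
  induction k with
  | zero =>
    intro a X Y f h1 h2 h3 h4 hH
    simp only [Nat.cast_zero, add_zero] at h2 h4
    exact isProIso_concentrated a f (hH a)
  | succ k ih =>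
    intro a X Y f h1 h2 h3 h4 hH
    refine isProIso_mid _ _ _ _ _ _ (trunc_triangle X (a + 1)) (trunc_triangle Y (a + 1))
      (Functor.whiskerRight f _) f (Functor.whiskerRight f _) ?_ ?_ ?_ ?_ ?_
    · ext m
      exact ((t.truncLTι (a + 1)).naturality (f.app m)).symm
    · ext m
      exact ((t.truncGEπ (a + 1)).naturality (f.app m)).symm
    · ext m
      exact ((t.truncGEδLT (a + 1)).naturality (f.app m)).symm
    · haveI := fun n => isGE_truncLT (X.obj (op n)) a (a + 1) (lt_add_one a)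
      haveI := fun n => isGE_truncLT (Y.obj (op n)) a (a + 1) (lt_add_one a)
      haveI : ∀ n, ((X ⋙ t.truncLT (a + 1)).obj (op n)).IsGE a := fun n => isGE_truncLT (X.obj (op n)) a (a + 1) (lt_add_one a)
      haveI : ∀ n, ((Y ⋙ t.truncLT (a + 1)).obj (op n)).IsGE a := fun n => isGE_truncLT (Y.obj (op n)) a (a + 1) (lt_add_one a)
      haveI : ∀ n, ((X ⋙ t.truncLT (a + 1)).obj (op n)).IsLE a := fun n => isLE_truncLT (X.obj (op n)) a
      haveI : ∀ n, ((Y ⋙ t.truncLT (a + 1)).obj (op n)).IsLE a := fun n => isLE_truncLT (Y.obj (op n)) a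
      refine isProIso_concentrated a _ (isProIso_of_arrowIso (ltIso X (a + 1) a (lt_add_one a)).symm
        (ltIso Y (a + 1) a (lt_add_one a)).symm ?_ (hH a))
      rw [← cancel_mono (ltIso Y (a + 1) a (lt_add_one a)).hom, Category.assoc, Category.assoc, Iso.symm_hom,
        Iso.symm_hom, Iso.inv_hom_id, Category.comp_id, Iso.inv_comp_eq]
      ext m
      show (HH a).map _ ≫ (HH a).map _ = (HH a).map _ ≫ (HH a).map _
      rw [← Functor.map_comp, ← Functor.map_comp]
      exact congrArg (HH a).map ((t.truncLTι (a + 1)).naturality (f.app m))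
    · refine ih (a + 1) _ (fun n => inferInstanceAs (t.IsGE ((t.truncGE (a + 1)).obj (X.obj (op n))) (a + 1))) ?_
        (fun n => inferInstanceAs (t.IsGE ((t.truncGE (a + 1)).obj (Y.obj (op n))) (a + 1))) ?_ fun i => ?_
      · intro n
        haveI := h2 n
        have h := isLE_truncGE (X.obj (op n)) (a + (k + 1 : ℕ)) (a + 1) (by omega)
        rwa [show a + 1 + (k : ℤ) = a + (k + 1 : ℕ) by omega]
      · intro n
        haveI := h4 n
        have h := isLE_truncGE (Y.obj (op n)) (a + (k + 1 : ℕ)) (a + 1) (by omega)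
        rwa [show a + 1 + (k : ℤ) = a + (k + 1 : ℕ) by omega]
      · by_cases hi : a + 1 ≤ i
        · refine isProIso_of_arrowIso (geIso X (a + 1) i hi) (geIso Y (a + 1) i hi) ?_ (hH i)
          ext m
          show (HH i).map _ ≫ (HH i).map _ = (HH i).map _ ≫ (HH i).map _
          rw [← Functor.map_comp, ← Functor.map_comp]
          exact congrArg (HH i).map ((t.truncGEπ (a + 1)).naturality (f.app m)).symm
        · have hz : ∀ (Z : ARSys.PS (DerivedCategory A)) (n : ℕ), IsZero (((Z ⋙ t.truncGE (a + 1)) ⋙ HH i).obj (op n)) := by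
            intro Z n
            haveI : ((t.truncGE (a + 1)).obj (Z.obj (op n))).IsGE (a + 1) := inferInstanceAs (t.IsGE _ _)
            exact DerivedCategory.isZero_of_isGE ((t.truncGE (a + 1)).obj (Z.obj (op n))) (a + 1) i (by omega)
          exact fun n => ⟨n, le_rfl, 0, (hz X n).eq_of_src _ _, (hz Y n).eq_of_src _ _⟩

theorem exists_isEssConstant_of_homology : ∀ (k : ℕ) (a : ℤ) {X : ARSys.PS (DerivedCategory A)},
    (∀ n, (X.obj (op n)).IsGE a) → (∀ n, (X.obj (op n)).IsLE (a + k)) →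
    (∀ i, ∃ (B : A) (c : (Functor.const ℕᵒᵖ).obj B ⟶ X ⋙ HH i), DerCA.IsEssConstant (X ⋙ HH i) B c) →
    ∃ (L : DerivedCategory A) (c : (Functor.const ℕᵒᵖ).obj L ⟶ X), DerCA.IsEssConstant X L c := by
  intro k
  induction k with
  | zero =>
    intro a X h1 h2 hH
    simp only [Nat.cast_zero, add_zero] at h2
    obtain ⟨B, c, h⟩ := hH a
    exact exists_isEssConstant_concentrated a h
  | succ k ih =>
    intro a X h1 h2 hH
    haveI : ∀ n, ((X ⋙ t.truncLT (a + 1)).obj (op n)).IsGE a := fun n => isGE_truncLT (X.obj (op n)) a (a + 1) (lt_add_one a)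
    haveI : ∀ n, ((X ⋙ t.truncLT (a + 1)).obj (op n)).IsLE a := fun n => isLE_truncLT (X.obj (op n)) a
    obtain ⟨B, c, hB⟩ := hH a
    obtain ⟨L₁, c₁, hc₁⟩ := exists_isEssConstant_concentrated a
      (isEssConstant_of_iso (ltIso X (a + 1) a (lt_add_one a)).symm hB)
    obtain ⟨L₃, c₃, hc₃⟩ := ih (a + 1) (X := X ⋙ t.truncGE (a + 1))
      (fun n => inferInstanceAs (t.IsGE ((t.truncGE (a + 1)).obj (X.obj (op n))) (a + 1)))
      (fun n => by
        haveI := h2 n
        have h := isLE_truncGE (X.obj (op n)) (a + (k + 1 : ℕ)) (a + 1) (by omega)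
        rwa [show a + 1 + (k : ℤ) = a + (k + 1 : ℕ) by omega])
      fun i => by
        by_cases hi : a + 1 ≤ i
        · obtain ⟨B', c', hB'⟩ := hH i
          exact ⟨B', _, isEssConstant_of_iso (geIso X (a + 1) i hi) hB'⟩
        · have hz : ∀ n : ℕᵒᵖ, IsZero (((X ⋙ t.truncGE (a + 1)) ⋙ HH i).obj n) := by
            intro n
            haveI : ((t.truncGE (a + 1)).obj (X.obj n)).IsGE (a + 1) := inferInstanceAs (t.IsGE _ _)
            exact DerivedCategory.isZero_of_isGE ((t.truncGE (a + 1)).obj (X.obj n)) (a + 1) i (by omega)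
          exact ⟨_, { app := fun n => 0, naturality := fun _ _ _ => by simp }, 0, 𝟙 _,
            (hz (op 0)).eq_of_src _ _, fun j => ⟨j, Nat.zero_le j, le_rfl, (hz (op j)).eq_of_src _ _⟩⟩
    exact exists_isEssConstant_mid _ _ _ (trunc_triangle X (a + 1)) hc₁ hc₃

theorem isGE_isLE_of_bounds (X : DerivedCategory A) (a b : ℤ)
    (h : ∀ i : ℤ, i < a ∨ b < i → IsZero ((HH i).obj X)) : X.IsGE a ∧ X.IsLE b :=
  ⟨(DerivedCategory.isGE_iff X a).2 fun i hi => h i (Or.inl hi),
    (DerivedCategory.isLE_iff X b).2 fun i hi => h i (Or.inr hi)⟩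

end Groth.Agent.ProTri8
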